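import Cfsg.Agent.MonsterX.Frames.J10P0
import Cfsg.Agent.MonsterX.Frames.J10P1
import Cfsg.Agent.MonsterX.Frames.J10P2
import Cfsg.Agent.MonsterX.Frames.J10P3

/-!
# Frames: the cover certificate of the `K`-orbit `10B` (number 10)
-/

set_option autoImplicit false
set_option maxRecDepth 100000

namespace Cfsg.Agent.MonsterX.Frames.J10

open Cfsg.Agent.MonsterX.Lin24 Cfsg.Agent.MonsterX.Swar Cfsg.Agent.MonsterX.FrameCover
open Cfsg.Agent.MonsterX.FrameGam Cfsg.Agent.MonsterX.FrameData Cfsg.Agent.MonsterX.CertFrame

/-- The rows. -/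
noncomputable def W (m : ℕ) : ℕ := nthL [w0, w1, w2, w3, w4, w5, w6, w7, w8, w9, w10, w11, w12, w13, w14, w15, w16, w17, w18, w19, w20, w21, w22, w23, w24, w25, w26, w27, w28, w29, w30, w31, w32, w33, w34, w35, w36, w37] m

theorem rows : ∀ m, m < 38 →
    rowOK (ones 3542) (nthL d.uc) d.Ff d.nt d.s (nthL d.R m) gam (W m) = true := by
  intro m hm
  interval_cases m
  · exact row0
  · exact row1
  · exact row2
  · exact row3
  · exact row4
  · exact row5
  · exact row6
  · exact row7
  · exact row8
  · exact row9
  · exact row10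
  · exact row11
  · exact row12
  · exact row13
  · exact row14
  · exact row15
  · exact row16
  · exact row17
  · exact row18
  · exact row19
  · exact row20
  · exact row21
  · exact row22
  · exact row23
  · exact row24
  · exact row25
  · exact row26
  · exact row27
  · exact row28
  · exact row29
  · exact row30
  · exact row31
  · exact row32
  · exact row33
  · exact row34
  · exact row35
  · exact row36
  · exact row37

theorem cnts : ∀ m, m < 38 → cntOK (ones 3542) d.nt (W m) (p m) = true := by
  intro m hm
  interval_cases m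
  · exact cnt0
  · exact cnt1
  · exact cnt2
  · exact cnt3
  · exact cnt4
  · exact cnt5
  · exact cnt6
  · exact cnt7
  · exact cnt8
  · exact cnt9
  · exact cnt10
  · exact cnt11
  · exact cnt12
  · exact cnt13
  · exact cnt14
  · exact cnt15
  · exact cnt16
  · exact cnt17
  · exact cnt18
  · exact cnt19
  · exact cnt20
  · exact cnt21
  · exact cnt22
  · exact cnt23
  · exact cnt24
  · exact cnt25
  · exact cnt26
  · exact cnt27
  · exact cnt28
  · exact cnt29
  · exact cnt30
  · exact cnt31
  · exact cnt32
  · exact cnt33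
  · exact cnt34
  · exact cnt35
  · exact cnt36
  · exact cnt37

/-- The target function. -/
noncomputable def tgt : Fin 38 → Fin 3542 → Fin 38 := d.tgt W

/-- **The cover certificate.** -/
theorem cover {G V Y : Type*} [Group G] [MulAction G V] {K : Subgroup G} [MulAction K Y]
    {S : Coded K Y} {E : ℕ → K} (hy0 : S.code S.y0 = 4096)
    (hE : ∀ a, a < 44 → isK a = true → Rep S (E a) (ltc a)) (L : Subgroup G) (b : V)
    (hfix : ∀ l ∈ L, l • b = b) (hL : ∀ i, i < 2 → ((prodF E (nthW gw i) : K) : G) ∈ L)
    (nb : Fin 3542 → Y) (hnb : ∀ i : Fin 3542, S.code (nb i) = fld gam i) :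
    Cover K S.y0 nb L b (fun m : Fin 38 => (prodF E (nthW kw m))⁻¹) tgt :=
  cover_of_data hy0 hE d d_ok W rows L b hfix hL nb hnb

theorem card_tgt (m n : Fin 38) :
    Nat.card {i : Fin 3542 // tgt m i = n} = (p m >>> (12 * (n : ℕ))) % 4096 :=
  FrameData.card_tgt d W p (by decide) rows cnts m n

end Cfsg.Agent.MonsterX.Frames.J10
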