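import Cfsg.Agent.MonsterX.Frames.J0P0

/-!
# Frames: the cover certificate of the `K`-orbit `2A` (number 0)
-/

set_option autoImplicit false
set_option maxRecDepth 100000

namespace Cfsg.Agent.MonsterX.Frames.J0

open Cfsg.Agent.MonsterX.Lin24 Cfsg.Agent.MonsterX.Swar Cfsg.Agent.MonsterX.FrameCover
open Cfsg.Agent.MonsterX.FrameGam Cfsg.Agent.MonsterX.FrameData Cfsg.Agent.MonsterX.CertFrame

/-- The rows. -/
noncomputable def W (m : ℕ) : ℕ := nthL [w0, w1, w2] m

theorem rows : ∀ m, m < 3 →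
    rowOK (ones 3542) (nthL d.uc) d.Ff d.nt d.s (nthL d.R m) gam (W m) = true := by
  intro m hm
  interval_cases m
  · exact row0
  · exact row1
  · exact row2

theorem cnts : ∀ m, m < 3 → cntOK (ones 3542) d.nt (W m) (p m) = true := by
  intro m hm
  interval_cases m
  · exact cnt0
  · exact cnt1
  · exact cnt2

/-- The target function. -/
noncomputable def tgt : Fin 3 → Fin 3542 → Fin 3 := d.tgt W

/-- **The cover certificate.** -/
theorem cover {G V Y : Type*} [Group G] [MulAction G V] {K : Subgroup G} [MulAction K Y]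
    {S : Coded K Y} {E : ℕ → K} (hy0 : S.code S.y0 = 4096)
    (hE : ∀ a, a < 44 → isK a = true → Rep S (E a) (ltc a)) (L : Subgroup G) (b : V)
    (hfix : ∀ l ∈ L, l • b = b) (hL : ∀ i, i < 2 → ((prodF E (nthW gw i) : K) : G) ∈ L)
    (nb : Fin 3542 → Y) (hnb : ∀ i : Fin 3542, S.code (nb i) = fld gam i) :
    Cover K S.y0 nb L b (fun m : Fin 3 => (prodF E (nthW kw m))⁻¹) tgt :=
  cover_of_data hy0 hE d d_ok W rows L b hfix hL nb hnb

theorem card_tgt (m n : Fin 3) :
    Nat.card {i : Fin 3542 // tgt m i = n} = (p m >>> (12 * (n : ℕ))) % 4096 :=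
  FrameData.card_tgt d W p (by decide) rows cnts m n

end Cfsg.Agent.MonsterX.Frames.J0
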