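import Cfsg.Agent.MonsterX.FrameData

/-!
# Frames: data for the `K`-orbit `2A` (number 0)
-/

set_option autoImplicit false
set_option maxRecDepth 100000

namespace Cfsg.Agent.MonsterX.Frames.J0

open Cfsg.Agent.MonsterX.Lin24 Cfsg.Agent.MonsterX.Swar Cfsg.Agent.MonsterX.FrameCover
open Cfsg.Agent.MonsterX.FrameGam Cfsg.Agent.MonsterX.FrameData

/-- The words of the generators of the stabiliser. -/
def gw : List (List ℕ) :=
  [[39],
    [25, 39, 42, 42, 25]]

/-- The words of the representatives. -/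
def kw : List (List ℕ) :=
  [[],
    [42, 39],
    [42, 39, 42, 39]]

/-- The data. -/
def d : FData where
  nt := 3
  s := 13
  ng := 2
  gw := gw
  gm := [0x7a055e29f8a820000059f8b6f2055e6df8a8f8055e00f9a3fb7ce521b9a901d9b100101e69f0a8b3f9e8dbfeec69f9a8b3fd6800004069f888fa054efa0556fa055afa055cfa055f,
    0x16fd08b498ba00094c840a5010671abf871cc08808248407c86c0fda2e1dc0404b001a485a6de6ace346f6fd205a6fa6ace2660000105a6feefe8bacfe9baafe87dcfe87da3eebe2]
  uw := [[0, 1, 1, 0, 0, 0, 1, 1, 1, 0],
    [1, 1, 0, 1, 1, 0, 0, 0, 0],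
    [1, 0, 0, 0, 1, 0, 0, 0, 0, 1, 0],
    [1, 0, 1, 0, 0, 1, 1]]
  uc := [0xaf6c2e18fb958c8a0fdf9b30e39679f17287d897b388fb58b784cddcbbf9c8469923febdeafb198bf5d966ff19e38817da01946b758d53f5898685f41c1cbfc06572c065744a9e29,
    0x4b04cf616054b2163c5902093763fd736499da0040e2fa89b71934d0d684144a458a92f6ae9c9203f6c5aefaac3e03af8ae1d818663f03e815037127a163918b92f58b92f3b3fcf7,
    0x901367ab175c7bff92fb840d0a18972067bcf80c61db192bcb1f4480c8167f52fe59ee5c40766249e45aaf18c9d47bc1048201767f4b5d6ccd70673db0681d520893520895886458,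
    0x5ae056dc035de00c7088745ee60692120326a41a3676e31732ef4ba0581ea121a4289d00501876001d74ab9a49e775ba7f80a73114a6057c1fb089761294d63867ba3867bcb00360]
  kw := kw
  R := [0x800000400000200000100000080000040000020000010000008000004000002000001000000800000400000200000100000080000040000020000010000008000004000002000001,
    0xf40bfe53d948400002b3fdf6e42fbedbd1a8f00a7e01ff97f6f4d9437f39039b3b00103cd3f52267da08b7f0c2d3ffc867d308000080d3fd88f42fdef42feef42ff6f42ffaf42fff,
    0x8c2afe506f0fa7f6b267d2345b96bb27906de3d796000c753dd23c152af863169927c272c02dfc1c4cd9082ede1006081c463367d308a7f64a3b96451c44131c44231c443b1c4432]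
  F := [0x1000,
    0x103c,
    0x27c272]

/-- The numbers of targets, 12 bits each. -/
def pl : List ℕ := [0xc081ce,
    0x7006b3023,
    0x6eb6eb000]

/-- The numbers of targets of row `m`, 12 bits each. -/
noncomputable def p (m : ℕ) : ℕ := nthL pl m

theorem d_ok : d.ok = true := by decide +kernel

end Cfsg.Agent.MonsterX.Frames.J0
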