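import Cfsg.Agent.MonsterX.FrameData

/-!
# Frames: data for the `K`-orbit `2B` (number 1)
-/

set_option autoImplicit false
set_option maxRecDepth 100000

namespace Cfsg.Agent.MonsterX.Frames.J1

open Cfsg.Agent.MonsterX.Lin24 Cfsg.Agent.MonsterX.Swar Cfsg.Agent.MonsterX.FrameCover
open Cfsg.Agent.MonsterX.FrameGam Cfsg.Agent.MonsterX.FrameData

/-- The words of the generators of the stabiliser. -/
def gw : List (List ℕ) :=
  [[25, 39, 12, 13],
    [36, 25, 39, 42],
    [36, 37, 36, 37, 36, 37, 13, 17, 19, 20, 21, 22, 23]]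

/-- The words of the representatives. -/
def kw : List (List ℕ) :=
  [[],
    [38, 39],
    [42, 39],
    [38, 39, 42, 39],
    [42, 39, 42, 43, 39]]

/-- The data. -/
def d : FData where
  nt := 5
  s := 13
  ng := 3
  gw := gw
  gm := [0x5bfa68d20fa6000c0e10044441f4d6fe00ce02048892fbb1217d91684c1701d9b100101e69f0a8b3f9e8dbfeec69f9a8b3fd6800004069f888fa054efa0556fa055afa1542fbdcee,
    0xd90209ad098d941142000a72080222f9f64f4b0cbbfcf23bb4715b004e6ab4223b001c7a59e0b6b4fa0c59f6ccedfd0ab4fe8c59f48c000020b4fe1cfd06b2fd06befd06b87df27e,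
    0x400102800202920444a208b6c8010246020ec2011a80812041006482434a422de40010000007b40008ea000100000200000080000040000366000008000010000004000002000001]
  uw := [[2, 0, 2, 1, 1, 2, 2],
    [0, 2, 0, 1, 2, 1, 0, 0, 0, 2, 1],
    [0, 2, 1, 0, 0, 1],
    [2, 1, 2, 2, 0, 0, 1, 0]]
  uc := [0x6cf5ce1eed96fdf4f6fbf5fe540727cd0f737afc0232f507dd7a5cecb5a4102aa049ec36301334ce1ffd8202c484073487f74b59f61a201178ce078987e7c387e7cfce0bff70d395,
    0x4a807f3395b8a4010806096eeb95d5af0e3fde9521192e61b24912471676046e38001cf2cbfdb2ba7fc0cbeeb20003daba772279e762fbfa88f3877af39b8eba673af38b0abfd582,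
    0xe5199aecc9eb7feef669e5307c0b2477f4beace93e7ca50fd015cc4860b56404f1000c7aa40aaaa4ea3a59f63a000e3aed069059f61ab41086a4e646ed1280a4e64aa4f64ce035fd,
    0x891a5e2716c6001a728217c6b20a91d30ddf0b184a6ea262b9dc590596ee8c1e7249ec36cdeb0287ebbf201178921c64ce1ffdcbeef2060998ce0bf987e7c9ce0bf587ef2186c897]
  kw := kw
  R := [0x800000400000200000100000080000040000020000010000008000004000002000001000000800000400000200000100000080000040000020000010000008000004000002000001,
    0x8f05c0ec6968b90ebed026f62744b0a3eeee94003ad5a89fd0a9b5efaf3d2197c50017f8422cd246e4cccb23a842208846e338000402422786bdc4b0bdcf3cbdcba2bdc7d6bdc7d7,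
    0xf40bfe53d948400002b3fdf6e42fbedbd1a8f00a7e01ff97f6f4d9437f39039b3b00103cd3f52267da08b7f0c2d3ffc867d308000080d3fd88f42fdef42feef42ff6f42ffaf42fff,
    0x6642b8ff312f51aebe46e376d11345119c31c16fe600093f9ee32c11ce2e181511fff05017405abcf0abe1cd9a9a8776bcfcf146e33851a0dc431637bcf501bcfe8dbcfa13bcf666,
    0xc8b26d0a48c4fc69cf49f837d1db0901fff7ad21afc4ddffcff9d5776b2cc3c3cd43c6204a0ccb4925e9486ea99a2f014af33d67d20a09d3d72f62812f60c14b64a308b0ff08b0f6]
  F := [0x1000,
    0x17f8,
    0x103c,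
    0xfff050,
    0x43c620]

/-- The numbers of targets, 12 bits each. -/
def pl : List ℕ := [0x700690046,
    0x3807002a00af007,
    0x3c08c00fb05a001,
    0x6906ab08c00f000,
    0x777620038007000]

/-- The numbers of targets of row `m`, 12 bits each. -/
noncomputable def p (m : ℕ) : ℕ := nthL pl m

theorem d_ok : d.ok = true := by decide +kernel

end Cfsg.Agent.MonsterX.Frames.J1
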