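import Cfsg.Agent.MonsterX.FrameData

/-!
# Frames: data for the `K`-orbit `4A` (number 2)
-/

set_option autoImplicit false
set_option maxRecDepth 100000

namespace Cfsg.Agent.MonsterX.Frames.J2

open Cfsg.Agent.MonsterX.Lin24 Cfsg.Agent.MonsterX.Swar Cfsg.Agent.MonsterX.FrameCover
open Cfsg.Agent.MonsterX.FrameGam Cfsg.Agent.MonsterX.FrameData

/-- The words of the generators of the stabiliser. -/
def gw : List (List ℕ) :=
  [[37, 3, 5, 6, 8, 9, 14, 16, 0, 12, 0, 12],
    [36, 36, 36, 37, 38, 42, 42, 42, 37, 38, 36, 36, 37, 14, 16, 18, 19, 20, 21, 25, 29, 30, 32, 2, 6, 11, 16, 21]]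

/-- The words of the representatives. -/
def kw : List (List ℕ) :=
  [[],
    [39],
    [39, 42, 39],
    [39, 43, 39],
    [38, 39, 42, 39],
    [39, 42, 43, 39],
    [39, 42, 39, 42, 39],
    [39, 43, 39, 42, 39],
    [39, 38, 39, 43, 42, 39]]

/-- The data. -/
def d : FData where
  nt := 9
  s := 13
  ng := 2
  gw := gw
  gm := [0xf00cb2800202c2011aa60f1e4243ca8200d8a0889a630b5eaa0e0460082862245e00100000010000093e0006cc00004000000400063a0000080000100000800003da000002000001,
    0x33ff7c9c8ca25849c073aee6d4065a985922f7b71ebaf544e3d5360fa3c03fb39e001000000f480010280008ca001346001c540017940003fa001030000022001220000de6162d6b]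
  uw := [[1, 0, 0, 1, 1, 1, 1],
    [0, 0, 1, 0, 1, 1, 0, 0, 1, 0, 0],
    [1, 0, 0, 1, 0, 0],
    [1, 0, 0, 0, 1, 1, 1, 1]]
  uc := [0xcb68c00fa3d880c01eebe4d2ef3e18305850a417725a649073a53a34d14294a62e0010000018ca0014200013fa001ab60016ec000c54001f480010300000a0001de60000228a7b7b,
    0x87cc0460c89e20ae42308128ff5af89fec388f74ec51a668cde554d0ab10ebd9a80010000009be00093a0014a60013a800154a000ff2001a5800092e00191e00113e00097e7d4957,
    0xf7f4685059acd0d93c9a93182ffa2a3b6502e7094699598c37b0cc788e02772dc2001000000efe00170e001b54001db80002f0001dd8001d9a001d88001572001f980014a667305b,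
    0x34cec2ffb240dff6f8044d00df1cc8ff25f0069f4e250076f360ac5bbb2a24cab800100000050000123a001874001e960014020012cc000420001410000480001c000007667a8db1]
  kw := kw
  R := [0x800000400000200000100000080000040000020000010000008000004000002000001000000800000400000200000100000080000040000020000010000008000004000002000001,
    0x7a055e29f8a820000059f8b6f2055e6df8a8f8055e00f9a3fb7ce521b9a901d9b100101e69f0a8b3f9e8dbfeec69f9a8b3fd6800004069f888fa054efa0556fa055afa055cfa055f,
    0x460fbaa825a7d3fdf4b3fdf6add71593d0aff1f3d200063b9ef5d20a8798b19f7993edd46008ca0e22bd040d2a0803240e2bbdb3fd68d3fd889dd76b0e2aad0e2ab50e2ab90e2abc,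
    0x6eca522282cf380444ae8c85b57d99488111c5b29f72367efe09b7dacc371b187a48124c108589244801fff84c797c61b7bccdfbfac8837977bec6eef73ec8bf3c88bec6fcbec6ff,
    0x6642b8ff312f51aebe46e376d11345119c31c16fe600093f9ee32c11ce2e181511fff05017405abcf0abe1cd9a9a8776bcfcf146e33851a0dc431637bcf501bcfe8dbcfa13bcf666,
    0x645b2b0520167e2277a4f23768f98d00f993568a17e2766767fe77bbab42e1ed8b21ef3c2502112488b5242d114d0195257b87b3f19c04f9b317a7f117a6d1a5a421845a23845a26,
    0x8c2ae3386e0da60f1ef42fdf3397b9dd953519d2d549f4c3742a975d2bf0d0eb60ddc72fc1d44d744dc641d675cbfae41c46280e2bbd7c0aa6e06aafae404c3dbd8a3dbd923dbd9b,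
    0x837dc932608f9c443305bbc5e95bff366dbf053c7401f6c5bf0cb9dace245d1fec3daf954204a49117ba82082c2bbe27f8ee52b7bccd2fbca33f54c502eb5c4b137a03113a02eb4d,
    0x1f0fdb9d43c6be232bb7671496ccc14cd73fdf2934ff24f3b5a81afd06bbd0d3f1cf2bec9629c6950ec362a0674c2406452e0ebdcba1bd2d6b0f036a6709e20e2a2272e04c46f337]
  F := [0x1000,
    0x101e,
    0x93edd4,
    0x48124c,
    0xfff050,
    0x21ef3c,
    0xddc72f,
    0x3daf95,
    0xcf2bec]

/-- The numbers of targets, 12 bits each. -/
def pl : List ℕ := [0xdd6000,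
    0x3c01407800a00b5001,
    0x4602a0000000690023023000,
    0x3805b01500e001c23701c007000,
    0x700000348023348000023000,
    0x3807000001570381c0000007000,
    0x4605321b9000000276015000000,
    0x46062d0be0f0010186005000000,
    0x5076040dc0a500014a000000000]

/-- The numbers of targets of row `m`, 12 bits each. -/
noncomputable def p (m : ℕ) : ℕ := nthL pl m

theorem d_ok : d.ok = true := by decide +kernel

end Cfsg.Agent.MonsterX.Frames.J2
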