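import Cfsg.Agent.MonsterX.FrameData

/-!
# Frames: data for the `K`-orbit `6F` (number 7)
-/

set_option autoImplicit false
set_option maxRecDepth 100000

namespace Cfsg.Agent.MonsterX.Frames.J7

open Cfsg.Agent.MonsterX.Lin24 Cfsg.Agent.MonsterX.Swar Cfsg.Agent.MonsterX.FrameCover
open Cfsg.Agent.MonsterX.FrameGam Cfsg.Agent.MonsterX.FrameData

/-- The words of the generators of the stabiliser. -/
def gw : List (List ℕ) :=
  [[37, 42, 37, 37, 36, 37, 38, 36, 37, 16, 17, 18, 21, 23, 26, 27, 3, 6, 4, 14, 15, 19],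
    [36, 37, 42, 43, 15, 17, 20, 39, 42, 37, 37, 36, 37, 42, 13, 15, 16, 21, 22, 23, 25, 33, 1, 2, 6, 9, 11, 13, 14, 15, 16, 17, 21, 23]]

/-- The words of the representatives. -/
def kw : List (List ℕ) :=
  [[],
    [39],
    [42, 39],
    [36, 39],
    [39, 36, 38, 39],
    [39, 43, 42, 39],
    [42, 39, 43, 39],
    [39, 42, 42, 39]]

/-- The data. -/
def d : FData where
  nt := 8
  s := 13
  ng := 2
  gw := gw
  gm := [0x862f4fa06f625856a342dfc2534242141e844d7f2a4e83421abb405539e229b6600100000135a0013da0015160012da0000bc00046e0017da001bda001ae4000b300013fa00cc2d,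
    0x11405c5116da8f6582b3317536d99ff3779b505212b327c1f6a353506cb2e708c80002a0d0fb00d0e9f0000080c5776815f2c8d0f68815f5aed5d358d5b2d0d5b4ee001200f0da89]
  uw := [[1, 0, 0, 1, 1, 1, 1],
    [0, 0, 1, 0, 1, 1, 0, 0, 1, 0, 0],
    [1, 0, 0, 1, 0, 0],
    [1, 0, 0, 0, 1, 1, 1, 1]]
  uc := [0xf64b15885c21de6bc625caedf8699a7b8aed21960ecb80691ebf2e3e5cadac5a6110c6cca908ec0b01dea21d707e7c55dbf5e6671e0879fc04bcfc046ebe077e72857cdc8002802c,
    0x1f96a246027ca6084c73aea2c6019c28222622f73f084a40666afd62173f02ce0310da60dbeeb2b9d78462227cf7671f6c05a4c023e00e2904ac2bece7ab4df7602579fb6c666bed,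
    0x18a050c88e5131080805856c850c96cb762dfebe94157c0edf21cfd4984d6b3b6b0013a4bcebeeb2dcc81ef80cbe233e1ee20cbcf5f20007a4b2cfeeaef5f2be29ac1ef6c0280805,
    0xbe266a13b7d7030c82853ff11673abc6e76e911d266b656734910cb1b537917db7000736d5d6ce670ed4a21b4c32de840013fad5c1faa20c24d5d17832c9be220b30a20ed468cd7b]
  kw := kw
  R := [0x800000400000200000100000080000040000020000010000008000004000002000001000000800000400000200000100000080000040000020000010000008000004000002000001,
    0x7a055e29f8a820000059f8b6f2055e6df8a8f8055e00f9a3fb7ce521b9a901d9b100101e69f0a8b3f9e8dbfeec69f9a8b3fd6800004069f888fa054efa0556fa055afa055cfa055f,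
    0xf40bfe53d948400002b3fdf6e42fbedbd1a8f00a7e01ff97f6f4d9437f39039b3b00103cd3f52267da08b7f0c2d3ffc867d308000080d3fd88f42fdef42feef42ff6f42ffaf42fff,
    0x3d06fa94f278100000acf25679028a36fecc7c06fe007abd7dbc1710d6c980f4c5001c7ab4fa0c59f6ccedfd0ab4fe8c59f48c000020b4fe1cfd06b2fd06befd06b8fd0acefd06bb,
    0xd58252562e731577df68011a33a2c351e904b00996913a0da1b27aac31ec6b2f1f9217b8faf8cf6b6d9d0d8a8c48f6d3f96a3d680f70fafd65171e737ee31dece97d1713b5ed16ea,
    0xde03842e66a4a1fbb205bbc5a8239967d20315fbae11311f9eb501d24e76019bd54812460fbd33a069cacfb1bb0fbc4bc99022fa055a2fbca30e2ab50e2aad47d28b0fd0cb0e2abc,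
    0xdd85544520177008ca5d2c496adb019126e98b5d5de45dfefc02a5b581ff361956903058210b194880b9ffd1e0f2f4516f5811f7f88806db3f7d8446ee78907e58d07d84627d8467,
    0xe823e95c673e81dd35f42fdf339780de4e131a09ca4a2fdca40c5d5d2bddb4e26669e8cea60658344dc12604607c0e265c462f69f9a87c0aa6a06aa8c992605a6fa65a6fbe5a6fb7]
  F := [0x1000,
    0x101e,
    0x103c,
    0x1c7a,
    0x9217b8,
    0x481246,
    0x903058,
    0x69e8ce]

/-- The numbers of targets, 12 bits each. -/
def pl : List ℕ := [0x700620070046,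
    0x7000002a00e02a00a8007007,
    0x7002001200602a00a300c007,
    0x8c02001500700fb054006001,
    0x62044026a0cd038006001000,
    0x6204402690ce038006001000,
    0x6203bf2ca0ee038007000000,
    0x6ab38024c0c408c00e001000]

/-- The numbers of targets of row `m`, 12 bits each. -/
noncomputable def p (m : ℕ) : ℕ := nthL pl m

theorem d_ok : d.ok = true := by decide +kernel

end Cfsg.Agent.MonsterX.Frames.J7
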